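import Cfsg.Agent.Helper16.DT.Defs

/-!
# Fong–Swan for `p`-solvable groups: shared definitions (helper25, S4440 farm)

`HasLift p φ`: the function `φ` (an irreducible Brauer character) is the restriction to the
`p`-regular elements of an ordinary irreducible character.  `FSwan p M G`: every irreducible
Brauer character of `G` has a lift.  `BrConst p M φ χ`: `φ` is an irreducible Brauer constituent
of the restriction of `χ` to the `p`-regular elements.
-/

set_option autoImplicit false
set_option linter.unusedSectionVars false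

namespace Cfsg.Agent.Helper25.FS

open Cfsg Cfsg.Agent.Helper16 Cfsg.Agent.Helper16.DT

universe u

/-- `φ` is the restriction to the `p`-regular elements of an irreducible character. -/
def HasLift {G : Type u} [Group G] (p : ℕ) (φ : G → ℂ) : Prop :=
  ∃ χ : IrrCharacter G, pRegularPart p (χ : G → ℂ) = φ

/-- The Fong–Swan property: every irreducible Brauer character lifts. -/
def FSwan (p : ℕ) (M : Ideal AlgInt) [M.IsMaximal] (G : Type u) [Group G] : Prop :=
  ∀ φ ∈ IBr p M G, HasLift p φ

/-- `φ` is an irreducible Brauer constituent of `χ` on the `p`-regular elements. -/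
def BrConst {G : Type u} [Group G] (p : ℕ) (M : Ideal AlgInt) [M.IsMaximal] (φ χ : G → ℂ) : Prop :=
  ∃ l : List (G → ℂ), (∀ ψ ∈ l, ψ ∈ IBr p M G) ∧ φ ∈ l ∧ pRegularPart p χ = l.sum

open scoped ComplexConjugate in
/-- The `θ`-part of a function on `T ≥ N`: `f ↦ (t ↦ θ(1)/|N| · ∑_{n ∈ N} conj θ(n) · f(t n))`
(the action of the central idempotent of `θ`). -/
noncomputable def thetaProj {G : Type u} [Group G] (N T : Subgroup G) (hNT : N ≤ T) [Fintype N]
    (θ : N → ℂ) (f : T → ℂ) : T → ℂ :=
  fun t => (θ 1 / (Nat.card N : ℂ)) * ∑ n : N, conj (θ n) * f (t * ⟨(n : G), hNT n.2⟩)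

/-- The Kronecker product of two matrix representations. -/
noncomputable def kronRep {G : Type u} [Group G] {K : Type*} [Field K] {ι κ : Type*} [Fintype ι]
    [DecidableEq ι] [Fintype κ] [DecidableEq κ] (ρ : G →* Matrix ι ι K) (σ : G →* Matrix κ κ K) :
    G →* Matrix (ι × κ) (ι × κ) K where
  toFun g := Matrix.kroneckerMap (· * ·) (ρ g) (σ g)
  map_one' := by
    rw [map_one, map_one]
    exact Matrix.one_kronecker_one
  map_mul' g h := by
    rw [map_mul, map_mul]
    exact Matrix.mul_kronecker_mul _ _ _ _

end Cfsg.Agent.Helper25.FS
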