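import Cfsg.Agent.Helper25.FSwan.Defs
import Cfsg.Agent.Helper74.CentExt
import Cfsg.Agent.Helper74.FongMain

/-!
# Fong–Swan farm (helper25, S4440): abbreviations for the central extension of `Helper74`

For `N ⊴ G` and an irreducible representation `Y` of `N` (affording a `G`-invariant character `θ`),
`EG N Y = Helper74.extGroup N Y (card N)` is the finite central extension of `G` (by a cyclic group of
order prime to `p` when `p ∤ |N|`) in which `θ` extends: `N1 N Y ≅ N` is the canonical copy of `N`,
a normal subgroup, and `thetaExt N Y` is the extension of `θ` to `EG N Y`.
-/

set_option autoImplicit false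
set_option linter.unusedSectionVars false

namespace Cfsg.Agent.Helper25.FS

open Cfsg

universe u

variable {G : Type u} [Group G] (N : Subgroup G) [hN : N.Normal] {d : ℕ}
  (Y : Representation ℂ N (Fin d → ℂ))

/-- The central extension group. -/
abbrev EG : Type u := ↥(Helper74.extGroup N Y (Nat.card N))

/-- The projection onto `G`. -/
noncomputable abbrev piE : EG N Y →* G := Helper74.extProj N Y (Nat.card N)

/-- The canonical copy of `N`. -/
noncomputable abbrev N1 : Subgroup (EG N Y) := (Helper74.extIncl N Y).range

/-- The extension of the character of `Y` to `EG N Y`. -/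
noncomputable abbrev thetaExt : EG N Y → ℂ := (Helper74.extRep N Y (Nat.card N)).character

end Cfsg.Agent.Helper25.FS
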