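import Cfsg.Agent.Helper25.FSwan.Defs
import Cfsg.Agent.Helper16.UnionBlocks
import Cfsg.Agent.Helper16.Osima

set_option autoImplicit false
set_option linter.unusedSectionVars false
set_option linter.unusedVariables false

namespace Cfsg.Agent.Helper25.FS

open Cfsg Cfsg.Agent.Helper16 Cfsg.Agent.Helper16.DT

universe u

variable {p : ℕ} [Fact p.Prime] {M : Ideal AlgInt} [M.IsMaximal] {G : Type u} [Group G]

/-- (KO5) a set of irreducible characters whose idempotent has local integer coefficients is a union of blocks -/
theorem closed_of_memLocalRing_blockCoeff (hM : IsPModular p M) [Finite G]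
    (U : Set (IrrCharacter G)) (h : ∀ g : G, MemLocalRing M (blockCoeff U g))
    (χ : IrrCharacter G) (hχ : χ ∈ U) (ψ : IrrCharacter G)
    (hψ : SameBlock M (χ : G → ℂ) (ψ : G → ℂ)) : ψ ∈ U := by
  classical
  let _ : Fintype G := Fintype.ofFinite G
  have hMp : M.IsPrime := hM.2.1.isPrime
  have h1 := omega_sub_memLocalIdeal hψ (isClassFunction_blockCoeff U) h
  rw [omega_blockCoeff, omega_blockCoeff, if_pos hχ] at h1
  by_contra hψU
  rw [if_neg hψU, sub_zero] at h1
  exact not_memLocalIdeal_one h1

end Cfsg.Agent.Helper25.FS
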