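import Cfsg.Agent.Helper25.FSwan.Defs
import Cfsg.Agent.Helper48.FS_S2a
import Cfsg.Agent.Helper29.FS_S2b
import Cfsg.Agent.Helper15.CliffordCorr
import Cfsg.Agent.Helper81.CliffordInd
import Cfsg.Agent.Helper79.CharBasic

set_option autoImplicit false
set_option linter.unusedSectionVars false
set_option linter.unusedVariables false

namespace Cfsg.Agent.Helper25.FS

open Cfsg Cfsg.Agent.Helper16 Cfsg.Agent.Helper16.DT

universe u

variable {p : ℕ} [Fact p.Prime] {G : Type u} [Group G]

theorem thetaProj_finset_sum [Fintype G] (N : Subgroup G) [hN : N.Normal] [Fintype N]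
    (T : Subgroup G) (hNT : N ≤ T) (θ : N → ℂ) {ι : Type*} (s : Finset ι) (f : ι → T → ℂ) :
    thetaProj N T hNT θ (∑ i ∈ s, f i) = ∑ i ∈ s, thetaProj N T hNT θ (f i) := by
  classical
  induction s using Finset.induction_on with
  | empty =>
    have := Cfsg.Agent.Helper29.FS.thetaProj_smul N T hNT θ 0 0
    simpa using this
  | insert a s ha ih =>
    rw [Finset.sum_insert ha, Finset.sum_insert ha,
      Cfsg.Agent.Helper29.FS.thetaProj_add, ih]

/-- (S2c) the Clifford correspondent is the `θ`-part of the restriction -/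
theorem indFun_thetaProj_restrict [Fintype G] (N : Subgroup G) [hN : N.Normal] [Fintype N]
    (T : Subgroup G) [Fintype T] (θ : IrrCharacter N)
    (hT : T = Helper15.inertia N (θ : N → ℂ)) (hNT : N ≤ T) (χ : IrrCharacter G)
    (hχθ : classInner (fun n : N => (χ : G → ℂ) n) (θ : N → ℂ) ≠ 0) :
    indFun T (thetaProj N T hNT (θ : N → ℂ) (fun t : T => (χ : G → ℂ) t)) = (χ : G → ℂ) := by
  classical
  let _ := Helper74.irrFintype T
  have hinv : ∀ t ∈ T, Helper15.conjFun N t (θ : N → ℂ) = (θ : N → ℂ) := by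
    intro t ht
    rw [hT] at ht
    exact (Helper15.mem_inertia N _ t).mp ht
  have hχc : IsCharacter G (χ : G → ℂ) := Helper74.isCharacter_of_isIrr χ.2
  have hχcf : IsClassFunction G (χ : G → ℂ) := Helper74.irr_isClassFunction χ
  have hχT : IsCharacter T (fun t : T => (χ : G → ℂ) t) := Helper74.isCharacter_restrict T hχc
  obtain ⟨ψ₀, hψ₀irr, hψ₀ind, hψ₀full⟩ :=
    Helper15.clifford_correspondence_exists N θ.2 T hT hNT χ.2 hχθ
  -- multiplicity one
  have hmult : classInner (fun t : T => (χ : G → ℂ) t) ψ₀ = 1 := by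
    rw [← Helper15.frobenius_reciprocity' T ψ₀ (χ : G → ℂ) hχcf, hψ₀ind]
    exact Helper79.classInner_irr_self χ
  have hdec := Helper74.isCharacter_eq_sum_irr hχT
  have hproj : thetaProj N T hNT (θ : N → ℂ) (fun t : T => (χ : G → ℂ) t) = ψ₀ := by
    rw [hdec, thetaProj_finset_sum]
    rw [Finset.sum_eq_single (⟨ψ₀, hψ₀irr⟩ : IrrCharacter T)]
    · rw [Cfsg.Agent.Helper29.FS.thetaProj_smul, hmult, one_smul]
      apply (Cfsg.Agent.Helper48.FS.thetaProj_irr N T hNT θ hinv ⟨ψ₀, hψ₀irr⟩).1
      show classInner (Helper15.resTo N T hNT ψ₀) (θ : N → ℂ) ≠ 0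
      have : classInner (Helper15.resTo N T hNT ψ₀) (θ : N → ℂ) =
          classInner (fun n : N => (χ : G → ℂ) n) (θ : N → ℂ) := hψ₀full
      rw [this]
      exact hχθ
    · intro ξ _ hξne
      rw [Cfsg.Agent.Helper29.FS.thetaProj_smul]
      by_cases hcon : classInner (fun t : T => (χ : G → ℂ) t) (ξ : T → ℂ) = 0
      · rw [hcon, zero_smul]
      · by_cases hover : classInner (Helper15.resTo N T hNT (ξ : T → ℂ)) (θ : N → ℂ) = 0
        · rw [(Cfsg.Agent.Helper48.FS.thetaProj_irr N T hNT θ hinv ξ).2 hover, smul_zero]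
        · exfalso
          apply hξne
          apply Subtype.ext
          exact Helper81.clifford_unique_constituent N θ.2 T hNT hχc hψ₀irr
            (by rw [hmult]; exact one_ne_zero) hψ₀full ξ.2 hcon hover
    · intro h
      exact absurd (Finset.mem_univ _) h
  rw [hproj, hψ₀ind]

end Cfsg.Agent.Helper25.FS
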