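import Cfsg.Agent.Helper25.FSwan.Defs
import Cfsg.Agent.Helper75.FS_PERM
import Cfsg.Agent.Helper29.FS_S2b
import Cfsg.Agent.Helper76.FS_S2d
import Cfsg.Agent.Helper61.FS_S2ecore
import Cfsg.Agent.Helper25.FSwan.S2c
import Cfsg.Agent.Helper61.FS_S2g
import Cfsg.Agent.Helper77.FS_S2h
import Cfsg.Agent.Helper69.FS_S2i
import Cfsg.Agent.Helper87.DT_DEC
import Cfsg.Agent.Helper81.CliffordInd
import Cfsg.Agent.Helper74.CharComplete

/-!
# Fong–Swan farm (S4440), leaf (S2j): the Clifford correspondence step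

If `N ⊴ G` has order prime to `p`, `θ ∈ Irr N`, `χ ∈ Irr G` lies over `θ` and the inertia group of `θ`
has the Fong–Swan property, then every Brauer constituent of `χ°` lifts.
-/

set_option autoImplicit false
set_option linter.unusedSectionVars false
set_option linter.unusedVariables false

namespace Cfsg.Agent.Helper25.FS

open Cfsg Cfsg.Agent.Helper16 Cfsg.Agent.Helper16.DT

universe u

variable {p : ℕ} [Fact p.Prime] {M : Ideal AlgInt} [M.IsMaximal] {G : Type u} [Group G]

/-- list bookkeeping: concatenating nonempty decompositions -/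
theorem exists_concat {α β : Type*} [AddCommMonoid β] (S : Set β) (F : α → β) :
    ∀ l' : List α, (∀ a ∈ l', ∃ L : List β, L ≠ [] ∧ (∀ ψ ∈ L, ψ ∈ S) ∧ F a = L.sum) →
      ∃ LL : List β, (∀ ψ ∈ LL, ψ ∈ S) ∧ (l'.map F).sum = LL.sum ∧ l'.length ≤ LL.length := by
  intro l'
  induction l' with
  | nil => intro _; exact ⟨[], by simp, by simp, by simp⟩
  | cons a t ih =>
    intro h
    obtain ⟨L, hL0, hLS, hLsum⟩ := h a (List.mem_cons_self)
    obtain ⟨LL, hLLS, hLLsum, hlen⟩ := ih (fun b hb => h b (List.mem_cons_of_mem _ hb))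
    refine ⟨L ++ LL, ?_, ?_, ?_⟩
    · intro ψ hψ
      rcases List.mem_append.mp hψ with h1 | h1
      · exact hLS ψ h1
      · exact hLLS ψ h1
    · rw [List.map_cons, List.sum_cons, List.sum_append, hLsum, hLLsum]
    · have : 1 ≤ L.length := by
        rcases L with _ | ⟨x, L⟩
        · exact absurd rfl hL0
        · simp
      rw [List.length_cons, List.length_append]
      omega

/-- a sum of elements each fixed or killed by an additive map -/
theorem map_list_sum_filter {α : Type*} [AddCommMonoid α] (P : α → α) (hP0 : P 0 = 0)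
    (hPadd : ∀ a b, P (a + b) = P a + P b) [DecidablePred fun a => P a = a] :
    ∀ l : List α, (∀ a ∈ l, P a = a ∨ P a = 0) →
      P l.sum = (l.filter (fun a => P a = a)).sum := by
  intro l
  induction l with
  | nil => intro _; simpa using hP0
  | cons a t ih =>
    intro h
    rw [List.sum_cons, hPadd, ih (fun b hb => h b (List.mem_cons_of_mem _ hb))]
    by_cases ha : P a = a
    · rw [List.filter_cons_of_pos (by simpa using ha), List.sum_cons, ha]
    · rw [List.filter_cons_of_neg (by simpa using ha)]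
      rcases h a List.mem_cons_self with h1 | h1
      · exact absurd h1 ha
      · rw [h1, zero_add]

/-- (ST2) the Clifford correspondence step. -/
theorem hasLift_of_inertia (hpM : (p : AlgInt) ∈ M) [Fintype G] (N : Subgroup G) [hN : N.Normal]
    [Fintype N] (hNp : ¬ p ∣ Nat.card N) (θ : IrrCharacter N) (χ : IrrCharacter G)
    (hχθ : classInner (fun n : N => (χ : G → ℂ) n) (θ : N → ℂ) ≠ 0)
    (hFS : FSwan p M (Helper15.inertia N (θ : N → ℂ))) {φ : G → ℂ}
    (hφ : BrConst p M φ (χ : G → ℂ)) : HasLift p φ := by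
  classical
  have hM : IsPModular p M := ⟨Fact.out, inferInstance, hpM⟩
  have hθcf : IsClassFunction N (θ : N → ℂ) := Helper74.irr_isClassFunction θ
  have hNT : N ≤ Helper15.inertia N (θ : N → ℂ) := Helper15.le_inertia N hθcf
  have hinv : ∀ t ∈ Helper15.inertia N (θ : N → ℂ),
      Helper15.conjFun N t (θ : N → ℂ) = (θ : N → ℂ) :=
    fun t ht => (Helper15.mem_inertia N _ t).mp ht
  -- `φ` is irreducible
  have hφI : φ ∈ IBr p M G := by
    obtain ⟨l0, hl0, hφl0, -⟩ := hφ
    exact hl0 φ hφl0
  generalize hTdef : Helper15.inertia N (θ : N → ℂ) = T at hFS hNT hinv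
  let _ : Fintype T := Fintype.ofFinite T
  -- (S2e)
  have h1 := Cfsg.Agent.Helper61.FS.indFun_thetaProj_of_brConst_of N
    (fun l l' hl hl' h => Cfsg.Agent.Helper75.FS.perm_of_sum_eq hpM l l' hl hl' h)
    hM hNp T θ hTdef.symm hNT
    (fun f => Cfsg.Agent.Helper29.FS.thetaProj_pRegularPart N hNp T hNT (θ : N → ℂ) f)
    (fun χ' hχ' => indFun_thetaProj_restrict N T θ hTdef.symm hNT χ' hχ')
    (fun f => Cfsg.Agent.Helper76.FS.indFun_pRegularPart T f)
    χ hχθ hφ
  -- (S2g)
  obtain ⟨l, hl, hres⟩ := Cfsg.Agent.Helper61.FS.restrict_IBr_list (p := p) (M := M) T hφI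
  -- the `θ`-part of the restriction
  have hP0 : thetaProj N T hNT (θ : N → ℂ) 0 = 0 := by
    have := Cfsg.Agent.Helper29.FS.thetaProj_smul N T hNT (θ : N → ℂ) 0 0
    simpa using this
  have h2 : thetaProj N T hNT (θ : N → ℂ) l.sum =
      (l.filter (fun a => thetaProj N T hNT (θ : N → ℂ) a = a)).sum :=
    map_list_sum_filter (thetaProj N T hNT (θ : N → ℂ)) hP0
      (fun a b => Cfsg.Agent.Helper29.FS.thetaProj_add N T hNT (θ : N → ℂ) a b) l
      (fun a ha => Cfsg.Agent.Helper77.FS.thetaProj_IBr N hM hNp T hNT θ hinv (hl a ha))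
  set l' := l.filter (fun a => thetaProj N T hNT (θ : N → ℂ) a = a) with hl'def
  -- induction is additive on lists
  have hind : ∀ L : List (T → ℂ), indFun T L.sum = (L.map (indFun T)).sum := by
    intro L
    induction L with
    | nil => simpa using Helper15.indFun_zero T
    | cons a t ih => rw [List.sum_cons, Helper15.indFun_add, ih, List.map_cons, List.sum_cons]
  have h3 : φ = (l'.map (indFun T)).sum := by
    rw [← hind, ← h2, ← hres, h1]
  -- each member of `l'` induces to the reduction of an irreducible character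
  have h4 : ∀ a ∈ l', ∃ L : List (G → ℂ), L ≠ [] ∧ (∀ ψ ∈ L, ψ ∈ IBr p M G) ∧
      indFun T a = L.sum := by
    intro a ha
    have haI : a ∈ IBr p M T := hl a (List.mem_of_mem_filter ha)
    have hafix : thetaProj N T hNT (θ : N → ℂ) a = a := by
      have := List.of_mem_filter ha
      simpa using this
    have ha0 : a ≠ 0 := by
      intro h0
      have := Cfsg.Agent.Helper75.FS.eq_singleton_of_sum_eq hpM haI [] (by simp)
        (by simpa using h0.symm)
      simp at this
    obtain ⟨ψ', hψ'⟩ := hFS a haI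
    have hover := Cfsg.Agent.Helper69.FS.liesOver_of_lift N hNp T hNT θ hinv ψ' hψ' hafix ha0
    obtain ⟨hirr, -⟩ := Helper81.isIrrCharacter_indFun_inertia N θ.2 T hTdef.symm hNT ψ'.2 hover
    obtain ⟨L, hL, hLsum⟩ :=
      Helper87.DT.decomposition hpM (⟨indFun T (ψ' : T → ℂ), hirr⟩ : IrrCharacter G)
    have hred : indFun T a = L.sum := by
      rw [← hLsum, ← hψ', Cfsg.Agent.Helper76.FS.indFun_pRegularPart]
    refine ⟨L, ?_, ?_, hred⟩
    · rintro rfl
      have h1' : pRegularPart p (indFun T (ψ' : T → ℂ)) 1 = 0 := by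
        have := congrFun hLsum 1
        simpa using this
      have h2' : pRegularPart p (indFun T (ψ' : T → ℂ)) 1 = indFun T (ψ' : T → ℂ) 1 := by
        unfold pRegularPart
        rw [if_pos]
        unfold IsPRegular
        rw [orderOf_one]
        exact (Fact.out : p.Prime).not_dvd_one
      rw [h2'] at h1'
      exact Helper80.IsIrrCharacter.map_one_ne_zero hirr h1'
    · intro ψ hψ
      obtain ⟨n, ρ, hρ, hψρ, -⟩ := hL ψ hψ
      exact ⟨n, ρ, hρ, hψρ⟩
  obtain ⟨LL, hLLS, hLLsum, hlen⟩ := exists_concat (IBr p M G) (indFun T) l' h4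
  have hLL : LL = [φ] :=
    Cfsg.Agent.Helper75.FS.eq_singleton_of_sum_eq hpM hφI LL hLLS (by rw [← hLLsum, ← h3])
  have hlen1 : l'.length ≤ 1 := by rw [hLL] at hlen; simpa using hlen
  -- `l'` is a singleton
  rcases hl'eq : l' with _ | ⟨a, t⟩
  · rw [hl'eq] at h3
    have := Cfsg.Agent.Helper75.FS.eq_singleton_of_sum_eq hpM hφI [] (by simp)
      (by simpa using h3.symm)
    simp at this
  · rw [hl'eq] at hlen1
    have ht : t = [] := by
      rcases t with _ | ⟨b, t⟩
      · rfl
      · simp at hlen1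
    subst ht
    have ha : a ∈ l' := by rw [hl'eq]; simp
    have haI : a ∈ IBr p M T := hl a (List.mem_of_mem_filter ha)
    have hafix : thetaProj N T hNT (θ : N → ℂ) a = a := by
      have := List.of_mem_filter ha
      simpa using this
    have ha0 : a ≠ 0 := by
      intro h0
      have := Cfsg.Agent.Helper75.FS.eq_singleton_of_sum_eq hpM haI [] (by simp)
        (by simpa using h0.symm)
      simp at this
    obtain ⟨ψ', hψ'⟩ := hFS a haI
    have hover := Cfsg.Agent.Helper69.FS.liesOver_of_lift N hNp T hNT θ hinv ψ' hψ' hafix ha0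
    obtain ⟨hirr, -⟩ := Helper81.isIrrCharacter_indFun_inertia N θ.2 T hTdef.symm hNT ψ'.2 hover
    refine ⟨⟨indFun T (ψ' : T → ℂ), hirr⟩, ?_⟩
    rw [h3, hl'eq]
    simp only [List.map_cons, List.map_nil, List.sum_cons, List.sum_nil, add_zero]
    rw [← hψ', Cfsg.Agent.Helper76.FS.indFun_pRegularPart]

end Cfsg.Agent.Helper25.FS
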