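import Cfsg.Agent.Helper25.FSwan.Defs2
import Cfsg.Agent.Helper50.FS_S3dCore
import Cfsg.Agent.Helper93.FS_S3fCore
import Cfsg.Agent.Helper47.FS_S3b
import Cfsg.Agent.Helper41.FS_PPI
import Cfsg.Agent.Helper48.FS_BRC
import Cfsg.Agent.Helper75.FS_PERM
import Cfsg.Agent.Helper37.FS_INFL1
import Cfsg.Agent.Helper69.FS_IRR1
import Cfsg.Agent.Helper75.FS_K4
import Cfsg.Agent.Helper47.FS_K2

/-!
# Fong–Swan farm (S4440), leaves (S3d) and (S3f), closed from the cores of helper50 and helper93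
-/

set_option autoImplicit false
set_option linter.unusedSectionVars false
set_option linter.unusedVariables false

namespace Cfsg.Agent.Helper25.FS

open Cfsg Cfsg.Agent.Helper16 Cfsg.Agent.Helper16.DT

universe u

variable {p : ℕ} [Fact p.Prime] {M : Ideal AlgInt} [M.IsMaximal] {G : Type u} [Group G]

variable [Fintype G] (N : Subgroup G) [hN : N.Normal] [Fintype N] {d : ℕ}
  (Y : Representation ℂ N (Fin d → ℂ))

/-- (S3d) the reduction of `thetaExt` modulo `M` is irreducible, and stays irreducible on `N1`. -/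
theorem exists_modular_ext (hpM : (p : AlgInt) ∈ M) (hY : Y.IsIrreducible) [Finite (EG N Y)]
    (hNp : ¬ p ∣ Nat.card N) :
    ∃ (m : ℕ) (ρ : EG N Y →* Matrix (Fin m) (Fin m) (AlgInt ⧸ M)), IsIrredMat ρ ∧
      brauerChar p M ρ = pRegularPart p (thetaExt N Y) ∧
      IsIrredMat (ρ.comp (N1 N Y).subtype) := by
  have hS3b := Cfsg.Agent.Helper47.FS.isIrrCharacter_thetaExt N Y hY
  have hker : ¬ p ∣ Nat.card ((N1 N Y).subtype).ker := by
    rw [Subgroup.ker_subtype, Subgroup.card_bot]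
    exact (Fact.out : p.Prime).not_dvd_one
  exact Cfsg.Agent.Helper50.FS.exists_modular_ext_of N Y hpM hY hNp ⟨hS3b.1, hS3b.2.1⟩
    (fun hp χ => Cfsg.Agent.Helper41.FS.irr_mem_IBr_of_pPrime hpM hp χ)
    (fun ρ => Cfsg.Agent.Helper48.FS.brauerChar_eq_list_sum ρ)
    (fun hφ l hl h => Cfsg.Agent.Helper75.FS.eq_singleton_of_sum_eq hpM hφ l hl h)
    (fun ρ => Cfsg.Agent.Helper37.FS.brauerChar_comp (N1 N Y).subtype hker ρ)
    (fun ρ h => Cfsg.Agent.Helper69.FS.isIrredMat_of_brauerChar_mem_IBr hpM ρ h)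

/-- (S3f) products with the reduction of `thetaExt`. -/
theorem thetaExt_mul_mem_IBr (hpM : (p : AlgInt) ∈ M) (hY : Y.IsIrreducible) [Finite (EG N Y)]
    (hNp : ¬ p ∣ Nat.card N) (hN1 : (N1 N Y).Normal) {γ : EG N Y ⧸ N1 N Y → ℂ}
    (hγ : γ ∈ IBr p M (EG N Y ⧸ N1 N Y)) :
    pRegularPart p (thetaExt N Y) * (γ ∘ QuotientGroup.mk) ∈ IBr p M (EG N Y) :=
  Cfsg.Agent.Helper93.FS.thetaExt_mul_mem_IBr_of N Y hpM hY hNp hN1
    (exists_modular_ext N Y hpM hY hNp)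
    (fun inst m n hm ρ σ hsurj hσ hσL =>
      @Cfsg.Agent.Helper75.FS.isIrredMat_kronRep _ _ _ _ (N1 N Y) inst _ _ _ _ hm _ _ ρ σ hsurj hσ hσL)
    (fun m n A B => Cfsg.Agent.Helper47.FS.bfull_kronecker hpM A B) hγ

end Cfsg.Agent.Helper25.FS
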