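import Cfsg.Agent.Helper25.FSwan.Defs2
import Cfsg.Agent.Helper75.FS_PERM
import Cfsg.Agent.Helper76.FS_PREG
import Cfsg.Agent.Helper42.FS_INFL2
import Cfsg.Agent.Helper93.FS_S3a
import Cfsg.Agent.Helper47.FS_S3b
import Cfsg.Agent.Helper81.FS_S3cV
import Cfsg.Agent.Helper25.FSwan.S3df
import Cfsg.Agent.Helper87.DT_DEC
import Cfsg.Agent.Helper80.Pullback
import Cfsg.Agent.Helper15.CliffordCorr
import Cfsg.Agent.Helper74.FongMain

/-!
# Fong–Swan farm (S4440), leaf (S3g): the invariant step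

If `N ⊴ G` has order prime to `p` and `θ ∈ Irr N` is `G`-invariant, the lifting problem for the Brauer
constituents of the characters of `G` over `θ` reduces to the Fong–Swan property of a central extension
`Γ` of `G ⧸ N` by a cyclic group of order prime to `p`.
-/

set_option autoImplicit false
set_option linter.unusedSectionVars false
set_option linter.unusedVariables false

namespace Cfsg.Agent.Helper25.FS

open Cfsg Cfsg.Agent.Helper16 Cfsg.Agent.Helper16.DT

universe u

variable {p : ℕ} [Fact p.Prime] {M : Ideal AlgInt} [M.IsMaximal] {G : Type u} [Group G]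

theorem pRegularPart_apply_of_isPRegular {A : Type*} [Group A] (f : A → ℂ) {x : A}
    (hx : IsPRegular p x) : pRegularPart p f x = f x := by
  unfold pRegularPart
  rw [if_pos hx]

theorem pRegularPart_apply_of_not_isPRegular {A : Type*} [Group A] (f : A → ℂ) {x : A}
    (hx : ¬ IsPRegular p x) : pRegularPart p f x = 0 := by
  unfold pRegularPart
  rw [if_neg hx]

theorem isPRegular_mk {A : Type*} [Group A] (K : Subgroup A) [K.Normal] {x : A}
    (hx : IsPRegular p x) : IsPRegular p (QuotientGroup.mk x : A ⧸ K) := by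
  intro hdvd
  apply hx
  exact dvd_trans hdvd (orderOf_dvd_of_pow_eq_one (by
    rw [← QuotientGroup.mk_pow, pow_orderOf_eq_one]; rfl))

/-- (ST3) the invariant step: reduction to a central extension of `G ⧸ N`. -/
theorem exists_reduction_of_invariant (hpM : (p : AlgInt) ∈ M) [Fintype G] (N : Subgroup G)
    [hN : N.Normal] [Fintype N] (hNp : ¬ p ∣ Nat.card N) (θ : IrrCharacter N)
    (hinv : ∀ g : G, Helper15.conjFun N g (θ : N → ℂ) = (θ : N → ℂ)) :
    ∃ (Γ : Type u) (_ : Group Γ) (_ : Finite Γ) (f : Γ →* G ⧸ N),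
      Function.Surjective f ∧ f.ker ≤ Subgroup.center Γ ∧ ¬ p ∣ Nat.card f.ker ∧
      (FSwan p M Γ → ∀ χ : IrrCharacter G,
        classInner (fun n : N => (χ : G → ℂ) n) (θ : N → ℂ) ≠ 0 →
        ∀ φ : G → ℂ, BrConst p M φ (χ : G → ℂ) → HasLift p φ) := by
  classical
  have hp : p.Prime := Fact.out
  have hdeg := Helper74.charDegree_dvd_card θ
  obtain ⟨θf, hθirr⟩ := θ
  obtain ⟨d, Y, hY, rfl⟩ := hθirr
  have hYirr : Y.IsIrreducible := hY
  have hdN : d ∣ Nat.card N := by
    have h := Helper74.charDegree_rep Y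
    simp only [Module.finrank_fin_fun] at h
    rw [← h]
    exact hdeg
  have hpd : ¬ p ∣ d := fun h => hNp (h.trans hdN)
  have hpdm : ¬ p ∣ d * Nat.card N := by
    intro h
    rcases (Nat.Prime.dvd_mul hp).mp h with h | h
    · exact hpd h
    · exact hNp h
  have hmpos : 0 < Nat.card N := Nat.card_pos
  have hfinE : Finite (EG N Y) := Helper74.finite_extGroup N Y hYirr _ hmpos
  have hinvY : ∀ (g : G) (n : N), Y.character (MulAut.conjNormal g n) = Y.character n := by
    intro g n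
    have h1 := congrFun (hinv g) n
    rw [Helper15.conjFun_eq_comp] at h1
    exact h1
  have hsurj : Function.Surjective (piE N Y) :=
    Helper74.extProj_surjective N Y hYirr hinvY (Nat.card N)
  have hkerp : ¬ p ∣ Nat.card (piE N Y).ker :=
    Helper74.not_dvd_card_ker_extProj N Y hYirr _ hmpos hpdm
  have hN1 : (N1 N Y).Normal := Cfsg.Agent.Helper93.FS.N1_normal N Y
  obtain ⟨f, hf, hfker, hfp, hfmk⟩ :=
    Cfsg.Agent.Helper93.FS.exists_quotient_hom N Y hYirr hinvY hNp hN1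
  refine ⟨EG N Y ⧸ N1 N Y, inferInstance, inferInstance, f, hf, hfker, hfp, ?_⟩
  intro hFS χ hχθ φ hφ
  let _ : Fintype (EG N Y ⧸ N1 N Y) := Fintype.ofFinite _
  -- (a) the inflation of `χ`
  have hχ'irr : IsIrrCharacter (EG N Y) (fun x => (χ : G → ℂ) (piE N Y x)) :=
    Helper80.IsIrrCharacter.comp_surjective χ.2 (piE N Y) hsurj
  obtain ⟨hΘirr, hΘN1, hΘincl⟩ := Cfsg.Agent.Helper47.FS.isIrrCharacter_thetaExt N Y hYirr
  -- (b) it lies over `thetaExt` on `N1`
  have hres := Helper15.restrict_eq_smul_of_invariant N χ.2 ⟨d, Y, hY, rfl⟩ hχθ hinv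
  have hb : ∃ c : ℂ, c ≠ 0 ∧ ∀ x : N1 N Y,
      ((⟨_, hχ'irr⟩ : IrrCharacter (EG N Y)) : EG N Y → ℂ) x = c * thetaExt N Y x := by
    refine ⟨classInner (fun n : N => (χ : G → ℂ) n) Y.character, hχθ, ?_⟩
    rintro ⟨_, n, rfl⟩
    have h1 := congrFun hres n
    simp only [Pi.smul_apply, smul_eq_mul] at h1
    show (χ : G → ℂ) (piE N Y (Helper74.extIncl N Y n)) =
      _ * thetaExt N Y (Helper74.extIncl N Y n)
    rw [hΘincl n]
    exact h1
  -- (c) Gallagher
  obtain ⟨β, hβ⟩ := Cfsg.Agent.Helper81.FS.exists_gallagher N Y hYirr hN1 ⟨_, hχ'irr⟩ hb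
  -- (d) the decomposition of `β`
  obtain ⟨lβ, hlβ, hβsum⟩ := Helper87.DT.decomposition hpM β
  have hlβ' : ∀ γ ∈ lβ, γ ∈ IBr p M (EG N Y ⧸ N1 N Y) := by
    intro γ hγ
    obtain ⟨n, ρ, hρ, hγρ, -⟩ := hlβ γ hγ
    exact ⟨n, ρ, hρ, hγρ⟩
  -- (e) products with `thetaExt` and `p`-regular parts
  have hmulreg : ∀ b : EG N Y ⧸ N1 N Y → ℂ,
      pRegularPart p (thetaExt N Y * (b ∘ QuotientGroup.mk)) =
        pRegularPart p (thetaExt N Y) * (pRegularPart p b ∘ QuotientGroup.mk) := by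
    intro b
    funext x
    by_cases hx : IsPRegular p x
    · have hx' := isPRegular_mk (p := p) (N1 N Y) hx
      simp only [Pi.mul_apply, Function.comp_apply, pRegularPart_apply_of_isPRegular _ hx,
        pRegularPart_apply_of_isPRegular _ hx']
    · simp only [Pi.mul_apply, pRegularPart_apply_of_not_isPRegular _ hx, zero_mul]
  have hlistmul : ∀ l : List (EG N Y ⧸ N1 N Y → ℂ),
      pRegularPart p (thetaExt N Y) * (l.sum ∘ QuotientGroup.mk) =
        (l.map (fun γ => pRegularPart p (thetaExt N Y) * (γ ∘ QuotientGroup.mk))).sum := by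
    intro l
    induction l with
    | nil =>
      funext x
      simp
    | cons a t ih =>
      rw [List.map_cons, List.sum_cons, List.sum_cons, ← ih]
      funext x
      simp only [Pi.mul_apply, Function.comp_apply, Pi.add_apply]
      ring
  have hχ'reg : pRegularPart p (fun x => (χ : G → ℂ) (piE N Y x)) =
      (lβ.map (fun γ => pRegularPart p (thetaExt N Y) * (γ ∘ QuotientGroup.mk))).sum := by
    have h0 : (fun x => (χ : G → ℂ) (piE N Y x)) =
        thetaExt N Y * ((β : EG N Y ⧸ N1 N Y → ℂ) ∘ QuotientGroup.mk) := hβ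
    rw [h0, hmulreg, hβsum, hlistmul]
  have hF : ∀ ψ ∈ lβ.map (fun γ => pRegularPart p (thetaExt N Y) * (γ ∘ QuotientGroup.mk)),
      ψ ∈ IBr p M (EG N Y) := by
    intro ψ hψ
    obtain ⟨γ, hγ, rfl⟩ := List.mem_map.mp hψ
    exact thetaExt_mul_mem_IBr N Y hpM hYirr hNp hN1 (hlβ' γ hγ)
  -- (f) `φ ∘ piE` is one of the products
  obtain ⟨l1, hl1, hφl1, hsum1⟩ :=
    Cfsg.Agent.Helper42.FS.brConst_comp_of_surjective (piE N Y) hsurj hkerp hφ
  have hperm := Cfsg.Agent.Helper75.FS.perm_of_sum_eq hpM l1 _ hl1 hF (by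
    rw [← hsum1, ← hχ'reg]
    rfl)
  obtain ⟨γ, hγ, hγeq⟩ := List.mem_map.mp (hperm.mem_iff.mp hφl1)
  -- (g) lift `γ`
  obtain ⟨β', hβ'⟩ := hFS γ (hlβ' γ hγ)
  have hχ''irr := Cfsg.Agent.Helper81.FS.isIrrCharacter_thetaExt_mul N Y hYirr hN1 β'
  have hχ''reg : pRegularPart p
      (thetaExt N Y * ((β' : EG N Y ⧸ N1 N Y → ℂ) ∘ QuotientGroup.mk)) = φ ∘ piE N Y := by
    rw [hmulreg, hβ', hγeq]
  -- (h) it descends to `G`
  have hone : IsPRegular p (1 : EG N Y) := by
    unfold IsPRegular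
    rw [orderOf_one]
    exact hp.not_dvd_one
  have hker'' : ∀ x : EG N Y, piE N Y x = 1 →
      (thetaExt N Y * ((β' : EG N Y ⧸ N1 N Y → ℂ) ∘ QuotientGroup.mk)) x =
        (thetaExt N Y * ((β' : EG N Y ⧸ N1 N Y → ℂ) ∘ QuotientGroup.mk)) 1 := by
    intro x hx
    have hxreg : IsPRegular p x := by
      intro hdvd
      apply hkerp
      have h1 : orderOf (⟨x, hx⟩ : (piE N Y).ker) ∣ Nat.card (piE N Y).ker := orderOf_dvd_natCard _
      rw [← Subgroup.orderOf_coe] at h1
      exact dvd_trans hdvd h1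
    have h1 := congrFun hχ''reg x
    have h2 := congrFun hχ''reg 1
    rw [pRegularPart_apply_of_isPRegular _ hxreg] at h1
    rw [pRegularPart_apply_of_isPRegular _ hone] at h2
    rw [h1, h2, Function.comp_apply, Function.comp_apply, hx, map_one]
  obtain ⟨χ₀, hχ₀irr, hχ₀⟩ :=
    Helper80.IsIrrCharacter.exists_descend hχ''irr (piE N Y) hsurj hker''
  refine ⟨⟨χ₀, hχ₀irr⟩, ?_⟩
  funext g
  obtain ⟨x, rfl⟩ := hsurj g
  have hreg := Cfsg.Agent.Helper76.FS.isPRegular_map_iff (p := p) (piE N Y) hkerp x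
  have h5 := congrFun hχ''reg x
  rw [Function.comp_apply] at h5
  by_cases hx : IsPRegular p x
  · rw [pRegularPart_apply_of_isPRegular _ hx] at h5
    show pRegularPart p χ₀ (piE N Y x) = _
    rw [pRegularPart_apply_of_isPRegular _ (hreg.mpr hx), ← hχ₀ x, h5]
  · rw [pRegularPart_apply_of_not_isPRegular _ hx] at h5
    show pRegularPart p χ₀ (piE N Y x) = _
    rw [pRegularPart_apply_of_not_isPRegular _ (fun h => hx (hreg.mp h)), h5]

end Cfsg.Agent.Helper25.FS
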