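import Cfsg.Agent.Helper25.FSwan.OP4
import Cfsg.Agent.Helper25.FSwan.S2j
import Cfsg.Agent.Helper25.FSwan.S3g
import Cfsg.Agent.Helper76.FS_PP
import Cfsg.Agent.Helper65.FS_CON
import Cfsg.Agent.Helper12.FS_GT
import Cfsg.Agent.Helper12.FS_GLOB
import Cfsg.Agent.Helper37.FS_KO1
import Cfsg.Agent.Helper53.FS_KO3
import Cfsg.Agent.Helper67.FS_KO4
import Cfsg.Agent.Helper25.FSwan.KO5
import Cfsg.Agent.Helper11.PSolvable
import Cfsg.Agent.Helper1.FFPair
import Cfsg.Agent.Helper74.FongHtMain
import Cfsg.Agent.Helper81.CliffordInd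
import Cfsg.Agent.Lib.Cores

/-!
# The Fong–Swan theorem for `p`-solvable groups, and the Kiyota–Okuyama argument (S4440)

* `fong_swan`: in a `p`-solvable group every irreducible Brauer character (relative to a maximal ideal
  `M` of the algebraic integers containing `p`) is the restriction to the `p`-regular elements of an
  ordinary irreducible character.
* `union_of_blocks_of_fswan`: in a group with the Fong–Swan property, a set `U` of irreducible
  characters with `∑_{χ ∈ U} χ(1) χ(x) = 0` for all `p`-singular `x` is a union of `p`-blocks.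

The leaves were proved by the seats named in the imports (farm #15059).
-/

set_option autoImplicit false
set_option linter.unusedSectionVars false
set_option linter.unusedVariables false

namespace Cfsg.Agent.Helper25.FS

open Cfsg Cfsg.Agent.Helper16 Cfsg.Agent.Helper16.DT

universe u

variable {p : ℕ} [Fact p.Prime] {M : Ideal AlgInt} [M.IsMaximal] {G : Type u} [Group G]

/-- (MAIN) the Fong–Swan theorem, induction on `(|G|_p, |G|)` -/
theorem fong_swan_aux (hpM : (p : AlgInt) ∈ M) : ∀ (a n : ℕ) (G : Type u) [Group G] [Finite G],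
    IsPSolvable p G → (Nat.card G).factorization p = a → Nat.card G = n → FSwan p M G := by
  intro a
  induction a using Nat.strong_induction_on with
  | _ a IHa =>
  intro n
  induction n using Nat.strong_induction_on with
  | _ n IHn =>
  intro G _ _ hsolv ha hn
  classical
  have hp : p.Prime := Fact.out
  by_cases hO : pCore p G = ⊥
  · -- `O_p(G) = 1`
    have hNn : (pPrimeCore p G).Normal :=
      @Subgroup.normal_of_characteristic _ _ _ (Cfsg.Agent.Lib.pPrimeCore_characteristic (G := G) p)
    by_cases hNtop : pPrimeCore p G = ⊤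
    · -- `p'`-group
      apply Cfsg.Agent.Helper76.FS.fswan_of_pPrime hpM
      have h1 := Cfsg.Agent.Lib.card_pPrimeCore_coprime (G := G) p
      rw [hNtop, Subgroup.card_top] at h1
      exact fun hdvd => hp.not_dvd_one (h1 ▸ Nat.dvd_gcd hdvd dvd_rfl)
    · -- the general case
      intro φ hφ
      obtain ⟨χ, hχ⟩ := Cfsg.Agent.Helper65.FS.exists_brConst hpM hφ
      let _ : Fintype G := Fintype.ofFinite G
      set N : Subgroup G := pPrimeCore p G with hNdef
      let _ : Fintype N := Fintype.ofFinite N
      have hNp : ¬ p ∣ Nat.card N := by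
        have h1 := Cfsg.Agent.Lib.card_pPrimeCore_coprime (G := G) p
        exact fun hdvd => hp.not_dvd_one (h1 ▸ Nat.dvd_gcd hdvd dvd_rfl)
      -- a constituent of the restriction
      have hχN : IsCharacter N (fun n : N => (χ : G → ℂ) n) :=
        Helper74.isCharacter_restrict N (Helper74.isCharacter_of_isIrr χ.2)
      have hχN1 : (fun n : N => (χ : G → ℂ) n) 1 ≠ 0 :=
        Helper80.IsIrrCharacter.map_one_ne_zero χ.2
      obtain ⟨θ, hθ⟩ := Helper81.exists_irr_constituent hχN hχN1
      by_cases hT : Helper15.inertia N (θ : N → ℂ) = ⊤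
      · -- `θ` is invariant
        have hinv : ∀ g : G, Helper15.conjFun N g (θ : N → ℂ) = (θ : N → ℂ) := by
          intro g
          have : g ∈ Helper15.inertia N (θ : N → ℂ) := by rw [hT]; trivial
          exact (Helper15.mem_inertia N _ g).mp this
        obtain ⟨Γ, iG, iF, f, hf, hker, hkp, hred⟩ :=
          exists_reduction_of_invariant hpM N hNp θ hinv
        obtain ⟨hΓsolv, P, hPn, hPp, hlt⟩ :=
          Cfsg.Agent.Helper12.FS.exists_normal_pGroup_of_central_ext hsolv N hNdef hNtop f hf hker hkp
        have hFSq : FSwan p M (Γ ⧸ P) :=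
          IHa _ (ha ▸ hlt) _ (Γ ⧸ P) (Helper11.isPSolvable_quotient P hΓsolv) rfl rfl
        have hFSΓ : FSwan p M Γ := fswan_of_normal_pGroup hpM P hPp hFSq
        exact hred hFSΓ χ hθ φ hχ
      · -- proper inertia group
        set T : Subgroup G := Helper15.inertia N (θ : N → ℂ) with hTdef
        have hTsolv : IsPSolvable p T := Helper1.Hol.isPSolvable_subgroup' T hsolv
        have hTlt : Nat.card T < Nat.card G := Helper74.card_lt_of_ne_top hT
        have hTfac : (Nat.card T).factorization p ≤ (Nat.card G).factorization p := by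
          have hdvd : Nat.card T ∣ Nat.card G := Subgroup.card_subgroup_dvd_card T
          exact (Nat.factorization_le_iff_dvd Nat.card_pos.ne' Nat.card_pos.ne').mpr hdvd p
        have hFST : FSwan p M T := by
          rcases lt_or_eq_of_le hTfac with h | h
          · exact IHa _ (ha ▸ h) _ T hTsolv rfl rfl
          · exact IHn _ (hn ▸ hTlt) T hTsolv (h.trans ha) rfl
        exact hasLift_of_inertia hpM N hNp θ χ (by convert hθ) hFST hχ
  · -- `O_p(G) ≠ 1`
    have hPn : (pCore p G).Normal :=
      @Subgroup.normal_of_characteristic _ _ _ (Cfsg.Agent.Lib.pCore_characteristic (G := G) p)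
    have hPp : IsPGroup p (pCore p G) := Cfsg.Agent.Lib.isPGroup_pCore p
    apply fswan_of_normal_pGroup hpM (pCore p G) hPp
    have hlt : (Nat.card (G ⧸ pCore p G)).factorization p < (Nat.card G).factorization p := by
      have hcard : Nat.card G = Nat.card (G ⧸ pCore p G) * Nat.card (pCore p G) :=
        Subgroup.card_eq_card_quotient_mul_card_subgroup _
      obtain ⟨k, hk⟩ := (IsPGroup.iff_card (p := p)).mp hPp
      have hk0 : k ≠ 0 := by
        rintro rfl
        rw [pow_zero] at hk
        exact hO ((Subgroup.card_eq_one).mp hk)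
      have hq0 : Nat.card (G ⧸ pCore p G) ≠ 0 := Nat.card_pos.ne'
      rw [hcard, hk, Nat.factorization_mul hq0 (pow_ne_zero _ hp.pos.ne'),
        Nat.factorization_pow, Finsupp.add_apply, Finsupp.smul_apply, hp.factorization_self]
      simp only [smul_eq_mul, mul_one]
      omega
    exact IHa _ (ha ▸ hlt) _ (G ⧸ pCore p G) (Helper11.isPSolvable_quotient _ hsolv) rfl rfl

/-- **The Fong–Swan theorem**: in a `p`-solvable group every irreducible Brauer character lifts to an
ordinary irreducible character. -/
theorem fong_swan (hM : IsPModular p M) [Finite G] (hsolv : IsPSolvable p G) :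
    FSwan p M G :=
  fong_swan_aux hM.2.2 _ _ G hsolv rfl rfl

/-- (KO) the Kiyota–Okuyama argument: S4440 for a group with the Fong–Swan property. -/
theorem union_of_blocks_of_fswan (hM : IsPModular p M) [Finite G] (hFS : FSwan p M G)
    (U : Set (IrrCharacter G))
    (hU : ∀ x : G, p ∣ orderOf x → ∑ᶠ χ ∈ U, (χ : G → ℂ) 1 * (χ : G → ℂ) x = 0)
    (χ : IrrCharacter G) (hχ : χ ∈ U) (ψ : IrrCharacter G)
    (hψ : SameBlock M (χ : G → ℂ) (ψ : G → ℂ)) : ψ ∈ U := by
  have hpM : (p : AlgInt) ∈ M := hM.2.2
  obtain ⟨S, d, hS, hli, hdec, hdeg, hvan, hloc⟩ :=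
    Cfsg.Agent.Helper12.FS.exists_decomp (p := p) (M := M) (G := G) hpM
  obtain ⟨A, hA⟩ := Cfsg.Agent.Helper37.FS.exists_dichotomy hpM hFS S d hS hdec hdeg U hU
  have hdiv := fun φ (hφ : φ ∈ S) =>
    Cfsg.Agent.Helper53.FS.pow_dvd_proj_degree hpM S d hli hdec hvan hφ
  exact closed_of_memLocalRing_blockCoeff hM U
    (fun g => Cfsg.Agent.Helper67.FS.memLocalRing_blockCoeff_of_dichotomy hM S d hdec hloc hdiv U hU
      A hA g) χ hχ ψ hψ

end Cfsg.Agent.Helper25.FS
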