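import Cfsg.Agent.Helper25.FSwan.Defs
import Cfsg.Agent.Helper29.FS_OP2
import Cfsg.Agent.Helper30.FS_OP3
import Cfsg.Agent.Helper80.Pullback

/-!
# Fong–Swan farm (S4440), leaf (OP4): a normal `p`-subgroup lies in the kernel of every irreducible
representation in characteristic `p`, so the Fong–Swan property passes from `G ⧸ P` to `G`.
-/

set_option autoImplicit false
set_option linter.unusedSectionVars false
set_option linter.unusedVariables false

namespace Cfsg.Agent.Helper25.FS

open Cfsg Cfsg.Agent.Helper16 Cfsg.Agent.Helper16.DT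

universe u

variable {p : ℕ} [Fact p.Prime] {M : Ideal AlgInt} [M.IsMaximal] {G : Type u} [Group G]

/-- (OP) the Fong–Swan property passes from `G ⧸ P`, `P` a normal `p`-subgroup, to `G`. -/
theorem fswan_of_normal_pGroup (hpM : (p : AlgInt) ∈ M) [Finite G] (P : Subgroup G) [P.Normal]
    (hP : IsPGroup p P) (h : FSwan p M (G ⧸ P)) : FSwan p M G := by
  classical
  intro φ hφ
  obtain ⟨n, ρ, hρ, rfl⟩ := hφ
  have h1 := Cfsg.Agent.Helper29.FS.apply_eq_one_of_mem_normal_pGroup hpM ρ hρ P hP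
  obtain ⟨ρ', hρ', hρρ'⟩ := Cfsg.Agent.Helper30.FS.exists_quotient_rep ρ hρ P h1
  obtain ⟨χ', hχ'⟩ := h (brauerChar p M ρ') ⟨n, ρ', hρ', rfl⟩
  have hirr : IsIrrCharacter G (fun g => (χ' : G ⧸ P → ℂ) (QuotientGroup.mk' P g)) :=
    Helper80.IsIrrCharacter.comp_surjective χ'.2 (QuotientGroup.mk' P)
      (QuotientGroup.mk'_surjective P)
  refine ⟨⟨_, hirr⟩, ?_⟩
  funext g
  by_cases hg : IsPRegular p g
  · have hg' : IsPRegular p (QuotientGroup.mk g : G ⧸ P) := by
      intro hdvd
      apply hg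
      exact dvd_trans hdvd (orderOf_dvd_of_pow_eq_one (by
        rw [← QuotientGroup.mk_pow, pow_orderOf_eq_one]; rfl))
    have h2 := congrFun hχ' (QuotientGroup.mk g)
    simp only [pRegularPart, brauerChar, brauerFull, if_pos hg, if_pos hg'] at h2 ⊢
    rw [← hρρ' g, ← h2]
    rfl
  · simp only [pRegularPart, brauerChar, if_neg hg]

end Cfsg.Agent.Helper25.FS
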